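import Mathlib
import Cfsg.Agent.H323.OI.Pieces2
import Cfsg.Agent.H323.OI.VF
import Cfsg.Agent.H323.OI.Gp
import Cfsg.Agent.H637.OrthBasic
import Cfsg.Agent.SignalizersComponents.ComponentNormalize
import Cfsg.Agent.SignalizersComponents.Components
import Cfsg.Agent.SignalizersComponents.ComponentImage

/-!
# S3325, piece 16: the end of case (c) (helper337)
-/

set_option autoImplicit false

namespace Cfsg.Agent.H337.OI

open Cfsg Subgroup Matrix QuadraticMap
open Cfsg.Agent.H183
open Cfsg.Agent.H323.OI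
open Cfsg.Agent.SignalizersComponents

/-! ### Change of coordinates -/

section coord

variable {F : Type} [Field F] {n b : ℕ}

/-- `F^(n+b) ≃ F^n ⊕ F^b` -/
noncomputable def coordE (F : Type) [Field F] (n b : ℕ) : (Fin (n + b) → F) ≃ₗ[F] (Fin n ⊕ Fin b → F) :=
  LinearEquiv.funCongrLeft F F finSumFinEquiv

theorem sqf_coordE (c : Fin n → F) (d : Fin b → F) (v : Fin (n + b) → F) :
    dq (Fin.append c d) v = sqf c d (coordE F n b v) := by
  show (∑ i, Fin.append c d i * v i ^ 2) = (∑ i, c i * _ ^ 2) + (∑ i, d i * _ ^ 2)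
  rw [Fin.sum_univ_add]
  simp only [Fin.append_left, Fin.append_right]
  rfl

/-- `Ω` in the two coordinate systems -/
noncomputable def isoE (c : Fin n → F) (d : Fin b → F) : OOV c d ≃* OO (Fin.append c d) :=
  Cfsg.Agent.H637.isoConj (coordE F n b) (sqf c d) (dq (Fin.append c d)) (sqf_coordE c d)

theorem commutator_map_equiv {A B : Type*} [Group A] [Group B] (e : A ≃* B) :
    (commutator A).map e.toMonoidHom = commutator B := by
  rw [commutator_def, commutator_def, Subgroup.map_commutator, ← MonoidHom.range_eq_map,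
    MonoidHom.range_eq_top.2 e.surjective]

/-- the commutator subgroups -/
noncomputable def commE {A B : Type*} [Group A] [Group B] (e : A ≃* B) : ↥(commutator A) ≃* ↥(commutator B) :=
  (e.subgroupMap (commutator A)).trans (MulEquiv.subgroupCongr (commutator_map_equiv e))

/-- `Ω(V)` in the two coordinate systems -/
noncomputable def omE (c : Fin n → F) (d : Fin b → F) : Om (Fin.append c d) ≃* OmV c d :=
  (commE (isoE c d)).symm

end coord

/-! ### Group theory -/

/-- a component containing its centralizer is normal -/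
theorem normal_of_component {G : Type*} [Group G] {K : Subgroup G} (hK : IsComponent K)
    (h : centralizer (K : Set G) ≤ K) : K.Normal := by
  have key : ∀ g : G, K.map (MulAut.conj g).toMonoidHom = K := by
    intro g
    by_contra hne
    have h1 := Components.isComponent_conj g hK
    have h2 := ComponentNormalize.component_comm_of_ne hK h1 (fun h => hne h.symm)
    have h3 : K.map (MulAut.conj g).toMonoidHom ≤ centralizer (K : Set G) := by
      rw [Subgroup.commutator_comm] at h2
      exact Subgroup.commutator_eq_bot_iff_le_centralizer.1 h2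
    have h4 := h3.trans h
    have h5 : K.map (MulAut.conj g).toMonoidHom ≤ centralizer ((K.map (MulAut.conj g).toMonoidHom : Subgroup G) : Set G) :=
      h3.trans (centralizer_le h4)
    have h6 : ⁅K.map (MulAut.conj g).toMonoidHom, K.map (MulAut.conj g).toMonoidHom⁆ = ⊥ :=
      Subgroup.commutator_eq_bot_iff_le_centralizer.2 h5
    exact ComponentImage.commutator_ne_bot h1 h6
  refine ⟨fun k hk g => ?_⟩
  have h1 : (MulAut.conj g).toMonoidHom k ∈ K.map (MulAut.conj g).toMonoidHom := mem_map_of_mem _ hk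
  rw [key g] at h1
  exact h1

/-- a map with central kernel: the image is `P` or `P / Z(P)`, if `Z(P)` has at most two elements -/
theorem range_cases {P G : Type*} [Group P] [Group G] (ρ : P →* G) (hk : ρ.ker ≤ center P)
    (hz : ∀ a ∈ center P, ∀ b ∈ center P, a ≠ 1 → b ≠ 1 → a = b) :
    Nonempty (↥ρ.range ≃* P ⧸ center P) ∨ Nonempty (↥ρ.range ≃* P) := by
  by_cases h : ρ.ker = ⊥
  · right
    exact ⟨(MonoidHom.ofInjective ((MonoidHom.ker_eq_bot_iff ρ).1 h)).symm⟩
  · left
    obtain ⟨a, ha⟩ := Subgroup.ne_bot_iff_exists_ne_one.1 h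
    have h1 : ρ.ker = center P := by
      refine le_antisymm hk fun b hb => ?_
      by_cases hb1 : b = 1
      · rw [hb1]; exact one_mem _
      · have h2 := hz b hb a.1 (hk a.2) hb1 (fun h => ha (Subtype.ext h))
        rw [h2]
        exact a.2
    exact ⟨((QuotientGroup.quotientMulEquivOfEq h1.symm).trans (QuotientGroup.quotientKerEquivRange ρ)).symm⟩

/-! ### The piece -/

theorem eight_le {F : Type} [Field F] [Fintype F] {n : ℕ} {c : Fin n → F} (h : Sp c) : 8 ≤ n := by
  obtain ⟨k, hk⟩ := h.odd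
  have h1 : Fintype.card F % 4 = 1 ∨ Fintype.card F % 4 = 3 := by omega
  rcases h1 with h1 | h1
  · rcases h.h6.1 h1 with h2 | ⟨h2, -⟩ <;> omega
  · rcases h.h6.2 h1 with h2 | ⟨h2, -⟩ | ⟨h2, -⟩ <;> omega

theorem two_ne {F : Type} [Field F] [Fintype F] (h : Odd (Fintype.card F)) : (2 : F) ≠ 0 := by
  intro h2
  have h3 : ringChar F = 2 := by
    have h4 : ringChar F ∣ 2 := ringChar.dvd (by exact_mod_cast h2)
    rcases (Nat.dvd_prime Nat.prime_two).1 h4 with h5 | h5
    · have := CharP.char_ne_one F (ringChar F)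
      exact absurd h5 this
    · exact h5
  have h4 := FiniteField.even_card_iff_char_two.1 h3
  rw [Nat.odd_iff] at h
  omega

section main

variable {F : Type} [Field F] [Fintype F] {n : ℕ} {c : Fin n → F} {G : Type} [Group G]
  {s : Cfg c G} {d : Fin 2 → F} {ρ : OmV c d →* G}

theorem t_mem_Q (s : Cfg c G) : s.t ∈ s.Q := by
  refine mem_inf.2 ⟨?_, ?_⟩
  · rw [mem_centralizer_singleton_iff]
  · rw [mem_centralizer_iff]
    rintro _ ⟨m, rfl⟩
    exact (s.fix m).symm

theorem M_le (h : GChart s d ρ) : s.M ≤ ρ.range := by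
  rintro _ ⟨m, rfl⟩
  rw [← h.res m]
  exact ⟨_, rfl⟩

theorem cent_le (h : GChart s d ρ) (hQ : s.Q ≤ ρ.range) : centralizer (ρ.range : Set G) ≤ ρ.range := by
  refine le_trans (le_inf ?_ ?_) hQ
  · exact centralizer_le (Set.singleton_subset_iff.2 (hQ (t_mem_Q s)))
  · exact centralizer_le (M_le h)

theorem card_sum (n : ℕ) : Fintype.card (Fin n ⊕ Fin 2) = n + 2 := by simp

/-- `t = ρ(± (1 ⊥ -1))` -/
theorem exists_x0 (hc : Sp c) (h : GChart s d ρ) (hQ : s.Q ≤ ρ.range) :
    ∃ x₀ : OmV c d, ρ x₀ = s.t ∧ (x₀.1 = tau c d ∨ x₀.1 = negV c d * tau c d) := by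
  obtain ⟨x₀, hx₀⟩ := hQ (t_mem_Q s)
  refine ⟨x₀, hx₀, ?_⟩
  have h8 := eight_le hc
  have hnf := nf_sqf (two_ne hc.odd) hc.ne h.dne
  have h5 : 5 ≤ Fintype.card (Fin n ⊕ Fin 2) := by rw [card_sum]; omega
  have hP : Group.IsPerfect (OmV c d) := perfect_nf hnf h5
  have e1 := hom_eq_of_center hP (MulAut.conj x₀).toMonoidHom (cj (tau c d)).toMonoidHom (fun x => by
    apply h.ker
    rw [MonoidHom.mem_ker, map_mul, map_inv, mul_inv_eq_one]
    show ρ (x₀ * x * x₀⁻¹) = ρ (cj (tau c d) x)
    rw [← h.tw, map_mul, map_mul, map_inv, hx₀])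
  have e2 : ∀ x : OmV c d, x₀.1 * x.1 * x₀.1⁻¹ = tau c d * x.1 * (tau c d)⁻¹ := fun x =>
    congrArg Subtype.val (DFunLike.congr_fun e1 x)
  have e3 := pm_nf hnf h5 ((tau c d)⁻¹ * x₀.1) (fun x hx => by
    have h1 := e2 ⟨x, hx⟩
    change x₀.1 * x * x₀.1⁻¹ = tau c d * x * (tau c d)⁻¹ at h1
    calc (tau c d)⁻¹ * x₀.1 * x = (tau c d)⁻¹ * (x₀.1 * x * x₀.1⁻¹) * x₀.1 := by group
      _ = x * ((tau c d)⁻¹ * x₀.1) := by rw [h1]; group)
  have hneg : ∀ A : OOV c d, A * negV c d = negV c d * A := by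
    intro A
    apply ext_iso
    intro v
    show (mx A * -1) *ᵥ v = (-1 * mx A) *ᵥ v
    simp
  rcases e3 with e3 | e3
  · left
    rw [inv_mul_eq_one] at e3
    exact e3.symm
  · right
    have h1 : (tau c d)⁻¹ * x₀.1 = negV c d := Subtype.ext (Units.ext e3)
    rw [inv_mul_eq_iff_eq_mul] at h1
    rw [h1, hneg]

theorem pEnd : PEnd := by
  intro hW hC F _ _ n c hc G _ _ s d ρ h hd hQ hodd
  have hcen := cent_le h hQ
  have hn := normal_of_component h.comp hcen
  obtain ⟨x₀, hx₀, hx⟩ := exists_x0 hc h hQ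
  have h8 := eight_le hc
  have h2 := two_ne hc.odd
  -- `G = K C`
  have htop : ρ.range ⊔ s.C = ⊤ := by
    rw [eq_top_iff]
    intro g _
    obtain ⟨k, hk⟩ := hW c d hc h.dne hd ρ h.ker g (fun x => hn.conj_mem _ ⟨x, rfl⟩ g) x₀ hx
    rw [hx₀, map_mul, map_mul, map_inv, hx₀] at hk
    have h1 : g = ρ k * ((ρ k)⁻¹ * g) := by group
    rw [h1]
    refine mul_mem (mem_sup_left ⟨k, rfl⟩) (mem_sup_right ?_)
    rw [mem_centralizer_singleton_iff]
    symm
    calc s.t * ((ρ k)⁻¹ * g) = (ρ k)⁻¹ * (ρ k * s.t * (ρ k)⁻¹) * g := by group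
      _ = (ρ k)⁻¹ * g * s.t := by rw [← hk]; group
  have hidx : Odd ρ.range.index := by
    have h1 : ρ.range.relIndex (s.C ⊔ ρ.range) = ρ.range.relIndex s.C := relIndex_sup_right _ _
    rw [sup_comm, htop, relIndex_top_right] at h1
    rw [h1, ← inf_relIndex_right]
    exact hodd
  -- the coordinates
  let c' : Fin (n + 2) → F := Fin.append c d
  have hne : ∀ i, c' i ≠ 0 := by
    intro i
    refine Fin.addCases (fun i => ?_) (fun i => ?_) i
    · show Fin.append c d _ ≠ 0
      rw [Fin.append_left]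
      exact hc.ne i
    · show Fin.append c d _ ≠ 0
      rw [Fin.append_right]
      exact h.dne i
  have hprod : ∏ i, c' i = (∏ i, c i) * ∏ i, d i := by
    rw [Fin.prod_univ_add]
    simp only [c', Fin.append_left, Fin.append_right]
  have hd0 : ∏ i, d i ≠ 0 := Finset.prod_ne_zero_iff.2 fun i _ => h.dne i
  have hsq : IsSquare (∏ i, c' i) ↔ IsSquare (∏ i, c i) := by
    rw [hprod]
    constructor
    · intro h1
      have h3 := h1.div hd
      rwa [mul_div_assoc, div_self hd0, mul_one] at h3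
    · intro h1
      exact h1.mul hd
  let ρ' : Om c' →* G := ρ.comp (omE c d).toMonoidHom
  have hr : ρ'.range = ρ.range := by
    apply le_antisymm
    · rintro _ ⟨x, rfl⟩
      exact ⟨_, rfl⟩
    · rintro _ ⟨x, rfl⟩
      refine ⟨(omE c d).symm x, ?_⟩
      show ρ (omE c d ((omE c d).symm x)) = ρ x
      rw [MulEquiv.apply_symm_apply]
  have hker : ρ'.ker ≤ center (Om c') := by
    intro x hx
    have h1 : omE c d x ∈ center (OmV c d) := h.ker hx
    rw [mem_center_iff] at h1 ⊢
    intro g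
    apply (omE c d).injective
    rw [map_mul, map_mul]
    exact h1 _
  have hz : ∀ a ∈ center (Om c'), ∀ b ∈ center (Om c'), a ≠ 1 → b ≠ 1 → a = b := by
    have hnf : NF (dq c') := nf_dq h2 hne
    have h5 : 5 ≤ Fintype.card (Fin (n + 2)) := by rw [Fintype.card_fin]; omega
    have key : ∀ a ∈ center (Om c'), a ≠ 1 → mx a.1 = -1 := by
      intro a ha ha1
      rcases pm_nf hnf h5 a.1 (fun x hx => congrArg Subtype.val (mem_center_iff.1 ha ⟨x, hx⟩).symm) with h3 | h3
      · exact absurd (Subtype.ext h3) ha1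
      · exact h3
    intro a ha b hb ha1 hb1
    apply Subtype.ext
    apply Subtype.ext
    apply Units.ext
    exact (key a ha ha1).trans (key b hb hb1).symm
  have hiso := range_cases ρ' hker hz
  obtain ⟨W, hW1, hW2, hW3, hW4, hW5⟩ := hC h2 c' (by omega) hne ρ' hker (by rw [hr]; exact hn) (by rw [hr]; exact hcen)
    (by rw [hr]; exact hidx)
  exact ⟨ρ'.range, by rw [hr]; exact hn, ⟨c', hne, hsq, hiso⟩, W, hW1, hW2, hW3, hW4, hW5⟩

end main

end Cfsg.Agent.H337.OI
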